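import Cfsg.Agent.Lib.Grp.HSx.Defs
import Cfsg.Agent.Lib.DC.Der

set_option autoImplicit false
set_option maxRecDepth 100000
set_option linter.unusedSectionVars false

namespace Cfsg.Agent.CG.HSd
open Cfsg.Agent.DC Cfsg.Agent.Mult

def wds : List (List ℕ) := [[0],[1],[2],[3],[4,0,4],[4,1,4],[4,2,4],[4,3,4],[5],[6],[9],[10],[11],[12],[13],[14],[15],[16],[17],[18],[19],[20],[21],[22],[23]]
noncomputable abbrev app : ℕ → ℕ → ℕ := appW HSx.app wds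
noncomputable abbrev bs : List ℕ := HSx.bs
noncomputable abbrev tcR : List (List ℕ) := HSx.tcR
noncomputable abbrev tcS : List ℕ := HSx.tcS
def rs : List (List ℕ) := [[6,4,3,3,4],[5,6],[8,0,4,3],[7,8],[10,7,5,4],[9,10],[12,3],[11,12],[14,6,10,5,9],[13,14],[16,4,7,0],[15,16],[18,12,16,16,12,16,13],[17,18],[20,11,14,16,11,11],[19,20],[22,16,16,12,14,12],[21,22],[23,21,20,22,18,22],[5,6],[7,8],[9,10],[11,12],[13,14],[15,16],[17,18],[19,20],[21,22],[23,23]]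
def xs : List (List ℕ × List (ℤ × ℕ)) := [([0],[(6,0),(15,1),(2,9),((-1),11)]),([1],[((-5),0),((-15),1),((-2),9),(1,11)]),([2],[(51,0),(120,1),(4,3),((-1),6),((-1),7),(16,9),((-8),11)]),([3],[((-51),0),((-119),1),((-4),3),(1,6),(1,7),((-16),9),(8,11)]),([4,0,4],[((-6),0),((-15),1),((-1),9),(1,11)]),([4,1,4],[((-17),0),((-45),1),((-5),9),(3,11)]),([4,2,4],[(39,0),(90,1),(4,3),((-1),6),((-1),7),(13,9),((-6),11)]),([4,3,4],[((-63),0),((-149),1),((-4),3),(1,6),(1,7),((-19),9),(10,11)]),([5],[((-114),0),((-268),1),((-8),3),(2,6),(2,7),((-35),9),(18,11),((-1),12),(1,13)]),([6],[(114,0),(268,1),(8,3),((-2),6),((-2),7),(35,9),((-18),11),(1,12)]),([9],[((-171),0),((-402),1),((-12),3),(3,6),(3,7),((-52),9),(27,11),((-1),12),(1,13),((-1),14),(1,15),((-1),16),(1,17)]),([10],[(171,0),(402,1),(12,3),((-3),6),((-3),7),(52,9),((-27),11),(1,12),((-1),13),(1,14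),((-1),15),(1,16)]),([11],[((-51),0),((-119),1),((-4),3),(1,6),(1,7),((-16),9),(8,11),((-1),18),(1,19)]),([12],[(51,0),(119,1),(4,3),((-1),6),((-1),7),(16,9),((-8),11),(1,18)]),([13],[(1,13),(1,17),((-1),20),(1,21)]),([14],[((-1),13),((-1),17),(1,20)]),([15],[((-51),0),((-119),1),((-4),3),(1,6),(1,7),((-15),9),(8,11),((-1),14),(1,15),((-1),22),(1,23)]),([16],[(51,0),(119,1),(4,3),((-1),6),((-1),7),(15,9),((-8),11),(1,14),((-1),15),(1,22)]),([17],[(237,0),(595,1),(5,3),(1,6),((-5),7),(77,9),((-40),11),(1,13),(3,14),((-3),15),(1,17),(2,18),((-1),20),(1,21),(3,22),((-1),24),(1,25)]),([18],[((-237),0),((-595),1),((-5),3),((-1),6),(5,7),((-77),9),(40,11),((-1),13),((-3),14),(3,15),((-1),17),((-2),18),(1,20),((-1),21),((-3),22),(1,24)]),([19],[((-96),0),((-238),1),((-3),3),(2,7),((-33),9),(16,11),((-1),13),(1,14),((-1),15),((-1),17),((-3),18),(3,19)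,(1,20),(1,22),((-1),26),(1,27)]),([20],[(96,0),(238,1),(3,3),((-2),7),(33,9),((-16),11),(1,13),((-1),14),(1,15),(1,17),(3,18),((-3),19),((-1),20),((-1),22),(1,26)]),([21],[((-96),0),((-244),1),((-2),3),(2,7),((-34),9),(16,11),((-1),13),(2,14),((-2),15),((-1),17),(2,18),(1,20),(2,22),((-1),28),(1,29)]),([22],[(96,0),(244,1),(2,3),((-2),7),(34,9),((-16),11),(1,13),((-2),14),(2,15),(1,17),((-2),18),((-1),20),((-2),22),(1,28)]),([23],[(45,0),(113,1),(1,6),((-1),7),(10,9),((-8),11),((-1),13),(6,14),((-6),15),((-1),17),(1,18),(3,19),(1,20),(1,21),(6,22),((-1),24),((-1),26),((-1),28),((-1),29),(1,30)])]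
def rd : List (List ℕ) := [[1,2],[5,6],[3,4],[7,8],[3,3,3,3,3,3],[7,7,7,7,7,7],[1,1,3,1,1,4],[5,5,7,5,5,8],[2,4,1,3,2,4,1,3,2,4,1,3],[6,8,5,7,6,8,5,7,6,8,5,7],[2,3,3,1,3,3,3,2,3,3,1,3,3,3,2,3,3,1,3,3,3],[6,7,7,5,7,7,7,6,7,7,5,7,7,7,6,7,7,5,7,7,7],[1,3,1,3,1,3,1,3,1,3,1,3,1,3,1,3],[5,7,5,7,5,7,5,7,5,7,5,7,5,7,5,7],[1,3,1,3,3,3,1,3,1,3,3,3,1,3,1,3,3,3,1,3,1,3,3,3],[5,7,5,7,7,7,5,7,5,7,7,7,5,7,5,7,7,7,5,7,5,7,7,7],[5,1],[1,5],[7,6,8,8,6,8,6,8,3,1,3,1,3,3,1,4,2,2],[3,2,4,4,2,4,2,4,7,5,7,5,7,7,5,8,6,6],[8,6,8,6,8,8,8,3,3,3,1,3,1,3,1,4,2,4,2,4,4,4,7,7,7,5,7,5,7,5,8,6,8,6,8,8,8,3,3,3,1,3,1,3,1],[4,2,4,2,4,4,4,7,7,7,5,7,5,7,5,8,6,8,6,8,8,8,3,3,3,1,3,1,3,1,4,2,4,2,4,4,4,7,7,7,5,7,5,7,5]]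
def ys : List (ℕ × List (ℤ × ℕ)) := [(1,[(18,0),(71,1),(17,2),(69,3),(16,5),((-36),7),((-16),11),(16,13),(1,14),((-1),16),((-7),18),((-1),21)]),(2,[((-17),0),((-71),1),((-17),2),((-69),3),((-16),5),(36,7),(16,11),((-16),13),((-1),14),(1,16),(7,18),(1,21)]),(3,[(226,0),(912,1),(209,2),(878,3),(207,5),((-462),7),((-207),11),(207,13),(13,14),((-27),16),((-89),18),((-12),21)]),(4,[((-226),0),((-912),1),((-208),2),((-878),3),((-207),5),(462,7),(207,11),((-207),13),((-13),14),(27,16),(89,18),(12,21)])]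
def ab : List (ℕ × ℤ × List (ℤ × ℕ)) := [(0,0,[((-6),0),((-15),1),((-1),2),((-1),9),(1,11)]),(1,0,[(7,0),(15,1),(1,2),(1,9),((-1),11)]),(2,0,[((-3),0),((-4),2),((-1),3),(1,6),((-1),7),(4,9)]),(3,0,[(3,0),(1,1),(4,2),(1,3),((-1),6),(1,7),((-4),9)]),(4,1,[])]
def chi (a : ℕ) : ZMod 2 := if a = 4 then 1 else if a = 4 then -1 else 0

end Cfsg.Agent.CG.HSd
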